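import Cfsg.Agent.Mrg.Omega.TTn.Z.Nc
import Cfsg.Agent.Mrg.Omega.TTn.Norm
import Cfsg.Agent.Mrg.Omega.S5.Pair
import Cfsg.Agent.Mrg.Omega.F4Leaf.App

section


/-!
# #15257: the data of `Z/OmT.lean` for a member of type `S₅` (`V_P = V₀ × A`)

* `dat` : `Def.Split S P 2 A ε` gives `OmT.Dat S M (cv S P) (zc (o2 P))` for every `M : FiveMod A P` with `Z.Dih S M`;
* `zT_le` : `Ω₁(Z(T)) ≤ Ω₁(Z(O₂(P)))`; `hB` : the input of `Z.Norm.exists_base`;
* `exists_base` : a mutual pair, `n` not 2-central, gives `Z.Base` with all data.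
-/

set_option autoImplicit false
set_option linter.unusedSectionVars false

namespace Cfsg.Agent.Omega.TTn.Z.Member

open Subgroup Cfsg Cfsg.Agent.ZN Cfsg.Agent.ZN.ChoiceBase Cfsg.Agent.Omega.MinPar
open Cfsg.Agent.Omega.FrameFF (cv)
open Cfsg.Agent.Omega.S5.Mod Cfsg.Agent.Omega.S5.TT
open Cfsg.Agent.Omega.S5.TT.Pos (na ns as sn n_ne s_ne a_ne n_ne_a n_ne_s a_ne_s e_sq' mem_C)
open Cfsg.Agent.Omega.S5.Def Cfsg.Agent.Omega.S5.Syl Cfsg.Agent.Omega.S5.Pair Cfsg.Agent.Omega.S5.Main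
open Cfsg.Agent.Omega.F4Leaf.Def Cfsg.Agent.Omega.F4Leaf.App

universe u

variable {G : Type u} [Group G] [Finite G]

section one

variable (hG : IsCharacteristicTwoType G) {S : Sylow 2 G} {P A : Subgroup G}
  {ε : (Fin (2 ^ 2 + 1) → ZMod 2) → G} (h : Split (S : Subgroup G) P 2 A ε) (hP : IsParS (S : Subgroup G) P)
include hG h hP

/-- `S ∩ C(A) = O₂(P)` -/
theorem mem_o2 {s : G} (hs : s ∈ (S : Subgroup G)) (hsA : s ∈ centralizer (A : Set G)) : s ∈ o2 P := by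
  rw [← hP.inf_centralizer S hG]
  refine ⟨hs, mem_centralizer_iff.mpr fun v hv => ?_⟩
  obtain ⟨c, hc, a, ha, rfl⟩ := h.mul_eq hG hP hv
  have h1 := mem_centralizer_iff.mp hsA a ha
  calc c * a * s = c * (a * s) := by group
    _ = c * s * a := by rw [h1, mul_assoc]
    _ = s * (c * a) := by rw [← h.comm (hP.le hs) hc, mul_assoc]

theorem o2_le_S : o2 P ≤ (S : Subgroup G) := by
  rw [← hP.inf_centralizer S hG]
  exact inf_le_left

theorem o2_le_cA : o2 P ≤ centralizer (A : Set G) := by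
  rw [← hP.inf_centralizer S hG]
  exact inf_le_right.trans (centralizer_le h.A_le)

theorem big : Big (S : Subgroup G) P (cv (S : Subgroup G) P) A (zc (o2 P)) ε where
  ev := h.even
  fix0 := h.fix0
  le := hP.le
  comm y hy y' hy' := MinSimple.VModule.zc_comm _ y hy y' hy'
  sq y hy := by rw [← pow_two]; exact (MinSimple.VModule.mem_zc.mp hy).2.2
  ge := h.A_le.trans (hP.isLoc.zl_le S hG)
  nrm g hg y hy := (mem_normalizer_iff.mp (MinSimple.VModule.normalizer_le_normalizer_zc _ (MinSimple.VModule.le_normalizer_o2 P hg)) y).mp hy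
  syl s hs hsA := by
    rw [mem_centralizer_iff]
    intro y hy
    exact ((MinSimple.VModule.mem_zc.mp hy).2.1 s (mem_o2 hG h hP hs hsA)).symm
  cz v hv g hg := h.comm hg hv
  fixed y hy hys := by
    have h1 : y ∈ zc (S : Subgroup G) := MinSimple.VModule.mem_zc.mpr ⟨o2_le_S hG h hP (MinSimple.VModule.mem_zc.mp hy).1, hys, (MinSimple.VModule.mem_zc.mp hy).2.2⟩
    rcases h.zc_mul hG hP (by norm_num) h1 with h2 | h2
    · exact ⟨y, h2, Or.inl rfl⟩
    · refine ⟨_, h2, Or.inr ?_⟩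
      rw [mul_assoc, h.even.sq, mul_one]

/-- the vector fixed by `S` -/
theorem ss_eq (M : FiveMod A P) (t : Z.Dih S M) : M.e ss = ε (Pi.single 0 1) := by
  rcases S5.Syl.fixed (by norm_num) h.even hP.le (MinSimple.Basic.not_dvd_relIndex S hP.le) h.fix0 (M.e_mem ss)
    (fun s hs => t.S_comm hs) with h1 | h1
  · exact absurd h1 (s_ne M)
  · exact h1

/-- **the data of `OmT`** -/
theorem dat (M : FiveMod A P) (t : Z.Dih S M) : OmT.Dat S M (cv (S : Subgroup G) P) (zc (o2 P)) where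
  dih := t
  OmS := (MinSimple.VModule.zc_le _).trans (o2_le_S hG h hP)
  Omc x hx y hy := MinSimple.VModule.zc_comm _ x hx y hy
  Om2 x hx := by rw [← pow_two]; exact (MinSimple.VModule.mem_zc.mp hx).2.2
  OmL := (MinSimple.VModule.le_normalizer_o2 P).trans (MinSimple.VModule.normalizer_le_normalizer_zc _)
  AOm := h.A_le.trans (hP.isLoc.zl_le S hG)
  cen g hg hgA x hx := by
    have h1 := (big hG h hP).cen (MinSimple.Basic.not_dvd_relIndex S hP.le) S.isPGroup' hg hgA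
    exact (mem_centralizer_iff.1 h1 x hx).symm
  V0Om := (inf_le_left : cv (S : Subgroup G) P ≤ zl (S : Subgroup G) P).trans (hP.isLoc.zl_le S hG)
  V0L g hg v hv := h.comm hg hv
  zS z hz := by
    rcases h.zc_mul hG hP (by norm_num) hz with h2 | h2
    · exact ⟨z, h2, Or.inl rfl⟩
    · refine ⟨_, h2, Or.inr ?_⟩
      rw [ss_eq hG h hP M t, mul_assoc, h.even.sq, mul_one]

/-- `Ω₁(Z(T)) ≤ Ω₁(Z(O₂(P)))` -/
theorem zT_le (M : FiveMod A P) : zc ((S : Subgroup G) ⊓ centralizer ({M.e nn} : Set G)) ≤ zc (o2 P) := by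
  have h1 : o2 P ≤ (S : Subgroup G) ⊓ centralizer ({M.e nn} : Set G) := by
    refine le_inf (o2_le_S hG h hP) fun q hq => mem_C.2 ?_
    exact (mem_centralizer_iff.1 (o2_le_cA hG h hP hq) _ (M.e_mem nn)).symm
  intro d hd
  obtain ⟨h2, h3, h4⟩ := MinSimple.VModule.mem_zc.1 hd
  refine MinSimple.VModule.mem_zc.2 ⟨hP.isLoc.char2 S hG ⟨hP.le h2.1, ?_⟩, fun b hb => h3 b (h1 hb), h4⟩
  exact mem_centralizer_iff.2 fun b hb => h3 b (h1 hb)

/-- `Ω₁(Z(T)) = V₀ {1, n, a, s}` -/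
theorem zT (M : FiveMod A P) (t : Z.Dih S M) : ∀ d ∈ zc ((S : Subgroup G) ⊓ centralizer ({M.e nn} : Set G)),
    ∃ v ∈ cv (S : Subgroup G) P, d = v ∨ d = v * M.e nn ∨ d = v * M.e aa ∨ d = v * M.e ss :=
  Nc.zT (dat hG h hP M t) (zT_le hG h hP M)

/-- the input of `exists_base` -/
theorem hB (M : FiveMod A P) (t : Z.Dih S M) :
    ∀ b ∈ zc ((S : Subgroup G) ⊓ centralizer ({M.e nn} : Set G)), ∀ g ∈ (S : Subgroup G),
      g * b * g⁻¹ = b ∨ g * b * g⁻¹ = b * M.e ss := by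
  intro b hb g hg
  obtain ⟨v, hv, h1⟩ := zT hG h hP M t b hb
  have hgv : g * v * g⁻¹ = v := by rw [h.comm (hP.le hg) hv, mul_inv_cancel_right]
  have hc : ∀ y, g * (v * y) * g⁻¹ = v * (g * y * g⁻¹) := by
    intro y
    calc g * (v * y) * g⁻¹ = (g * v * g⁻¹) * (g * y * g⁻¹) := by group
      _ = _ := by rw [hgv]
  obtain ⟨x, hxS, hx⟩ := t.exists_swap
  -- `g` or `g x` centralises `n` and `a`
  have key : (g * M.e nn * g⁻¹ = M.e nn ∧ g * M.e aa * g⁻¹ = M.e aa) ∨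
      (g * M.e nn * g⁻¹ = M.e aa ∧ g * M.e aa * g⁻¹ = M.e nn) := by
    rcases t.mem_or hxS hx hg with h2 | h2
    · left
      have e1 : g * M.e nn = M.e nn * g := mem_C.1 h2.2
      have e2 := t.T_comm_a h2
      rw [e1, e2, mul_inv_cancel_right, mul_inv_cancel_right]
      exact ⟨rfl, rfl⟩
    · right
      have e1 : g * x * M.e nn = M.e nn * (g * x) := mem_C.1 h2.2
      have e2 := t.T_comm_a h2
      constructor
      · calc g * M.e nn * g⁻¹ = g * (x * M.e aa * x⁻¹) * g⁻¹ := by rw [Dih.tt_a hx]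
          _ = (g * x * M.e aa) * (g * x)⁻¹ := by group
          _ = M.e aa := by rw [e2, mul_inv_cancel_right]
      · calc g * M.e aa * g⁻¹ = g * (x * M.e nn * x⁻¹) * g⁻¹ := by rw [Dih.tt_n hx]
          _ = (g * x * M.e nn) * (g * x)⁻¹ := by group
          _ = M.e nn := by rw [e1, mul_inv_cancel_right]
  have hgs : g * M.e ss * g⁻¹ = M.e ss := by rw [t.S_comm hg, mul_inv_cancel_right]
  rcases h1 with h1 | h1 | h1 | h1
  · left; rw [h1]; exact hgv
  · rcases key with ⟨k1, k2⟩ | ⟨k1, k2⟩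
    · left; rw [h1, hc, k1]
    · right; rw [h1, hc, k1, mul_assoc, ns]
  · rcases key with ⟨k1, k2⟩ | ⟨k1, k2⟩
    · left; rw [h1, hc, k2]
    · right; rw [h1, hc, k2, mul_assoc, as]
  · left; rw [h1, hc, hgs]

end one

end Cfsg.Agent.Omega.TTn.Z.Member

end

section


/-!
# LeafF4, `m = m' = 2`, `n` not 2-central: reduction to (O1) (#15257, #16767)

`O1` : `Z.Base S M M k` (a mutual pair `A`, `A ^ k`), `V₀ ≠ 1`, all known facts, and the ten groups `U_π` have a common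
element `≠ 1`. `f4nc_of : O1 → F4NC`.
-/

set_option autoImplicit false
set_option linter.unusedSectionVars false

namespace Cfsg.Agent.Omega.F4Leaf.NC

open Subgroup Cfsg Cfsg.Agent.ZN Cfsg.Agent.ZN.ChoiceBase Cfsg.Agent.Omega.MinPar
open Cfsg.Agent.Omega.Frame Cfsg.Agent.Omega.FFThm
open Cfsg.Agent.Omega.FrameLE (AllIn)
open Cfsg.Agent.Omega.FrameFF (cv)
open Cfsg.Agent.Omega.FrameMulti (AllTyped NoWr)
open Cfsg.Agent.Omega.S5.Mod Cfsg.Agent.Omega.S5.TT Cfsg.Agent.Omega.S5.Pair Cfsg.Agent.Omega.S5.Main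
open Cfsg.Agent.Omega.F4Leaf.Def Cfsg.Agent.Omega.F4Leaf.Main Cfsg.Agent.Omega.TTn

universe u

/-- **(O1)** -/
def O1 : Prop :=
  ∀ (G : Type u) [Group G] [Finite G], Ctx G → ∀ (S : Sylow 2 G), Full (S : Subgroup G) →
    AllIn (S : Subgroup G) → AllTyped (S : Subgroup G) → NoWr (S : Subgroup G) →
    ∀ (P A : Subgroup G) (ε : (Fin (2 ^ 2 + 1) → ZMod 2) → G) (M : FiveMod A P) (k : G),
      IsParS (S : Subgroup G) P → Split (S : Subgroup G) P 2 A ε → Z.Base S M M k →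
      Z.OmT.Dat S M (cv (S : Subgroup G) P) (zc (o2 P)) →
      zc ((S : Subgroup G) ⊓ centralizer ({M.e nn} : Set G)) ≤ zc (o2 P) →
      cv (S : Subgroup G) P ≠ ⊥ → A ≤ Q (M.e ss) →
      ¬ UU (M.e nn) (M.e aa) ≤ Q (M.e aa) →
      (∃ x, x ≠ 1 ∧ ∀ i j, i ≠ j → x ∈ Di.UP M i j) → False

/-- **F4NC from (O1)** -/
theorem f4nc_of (h1 : O1.{u}) : F4NC.{u} := by
  intro G _ _ hG S hF hI hT hW P₁ P₂ y A ε A₂ ε₂ hl hc₁ hc₂ hC
  have hp₁ := hl.pair.star₁
  have hp₂ := hl.pair.star₂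
  obtain ⟨g, k, M₁, M₂, -, b⟩ := Z.exists_base hG.char2 hl
    (fun M t => Z.Member.hB hG.char2 hl.split hp₁ M t) (fun M t => Z.Member.hB hG.char2 hl.split₂ hp₂ M t) hC
  obtain ⟨k', b'⟩ := b.to_one₁
  have t := Z.Member.dat hG.char2 hl.split hp₁ M₁ b.dih₁
  have hz := Z.Member.zT_le hG.char2 hl.split hp₁ M₁
  exact h1 G hG S hF hI hT hW P₁ A ε M₁ k' hp₁ hl.split b' t hz hc₁ (Z.Nc.le_Qs b' t hc₁)
    (Z.Nc.not_le b' t hz hc₁) (Z.Nc.exists_inf b' t hz hc₁)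

end Cfsg.Agent.Omega.F4Leaf.NC

end

section


/-!
# The hypotheses of `NC.O1` give the configuration `OT.Tone.Cfg`

* `cfg_of` : `Dat` + `Z.Base` + `V₀ ≠ 1` ⟹ `Tone.Cfg S M k V₀`;
* `o1_of` : `NC.O1` from the contradiction in `Tone.Cfg` (plus the other data of `O1`).
-/

set_option autoImplicit false
set_option linter.unusedSectionVars false

namespace Cfsg.Agent.Omega.F4Leaf.OT.OfO1

open Subgroup Cfsg Cfsg.Agent.ZN Cfsg.Agent.ZN.ChoiceBase Cfsg.Agent.Omega.MinPar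
open Cfsg.Agent.Omega.Frame Cfsg.Agent.Omega.FFThm
open Cfsg.Agent.Omega.FrameLE (AllIn)
open Cfsg.Agent.Omega.FrameFF (cv)
open Cfsg.Agent.Omega.FrameMulti (AllTyped NoWr)
open Cfsg.Agent.Omega.S5.Mod Cfsg.Agent.Omega.S5.TT Cfsg.Agent.Omega.S5.Pair Cfsg.Agent.Omega.S5.Main
open Cfsg.Agent.Omega.F4Leaf.Def Cfsg.Agent.Omega.F4Leaf.Main Cfsg.Agent.Omega.TTn

universe u

/-- the configuration of `OT/Tone.lean` -/
theorem cfg_of {G : Type u} [Group G] [Finite G] {S : Sylow 2 G} {A L : Subgroup G} {M : FiveMod A L} {k : G}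
    {V₀ Om : Subgroup G} (b : Z.Base S M M k) (t : Z.OmT.Dat S M V₀ Om)
    (hz : zc ((S : Subgroup G) ⊓ centralizer ({M.e nn} : Set G)) ≤ Om) (hne : V₀ ≠ ⊥) :
    Tone.Cfg S M k V₀ where
  b := b
  V0L g hg v hv := t.V0L g hg v hv
  V02 v hv := t.Om2 v (t.V0Om hv)
  V0S := t.V0Om.trans t.OmS
  zT := Z.Nc.zT t hz
  ne := hne

/-- **(O1) from the contradiction in the configuration** -/
theorem o1_of (h : ∀ (G : Type u) [Group G] [Finite G], Ctx G → ∀ (S : Sylow 2 G),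
    ∀ (A L : Subgroup G) (M : FiveMod A L) (k : G) (V₀ : Subgroup G),
      IsParS (S : Subgroup G) L → o2 L ≤ centralizer (A : Set G) → Tone.Cfg S M k V₀ → False) : NC.O1.{u} := by
  intro G _ _ hG S hF hI hT hW P A ε M k hP hs b t hz hne hQ hn hx
  exact h G hG S A P M k (cv (S : Subgroup G) P) hP (Z.Member.o2_le_cA hG.char2 hs hP) (cfg_of b t hz hne)

/-- **F4NC from the contradiction in the configuration** -/
theorem f4nc_of (h : ∀ (G : Type u) [Group G] [Finite G], Ctx G → ∀ (S : Sylow 2 G),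
    ∀ (A L : Subgroup G) (M : FiveMod A L) (k : G) (V₀ : Subgroup G),
      IsParS (S : Subgroup G) L → o2 L ≤ centralizer (A : Set G) → Tone.Cfg S M k V₀ → False) : F4NC.{u} :=
  NC.f4nc_of (o1_of h)

end Cfsg.Agent.Omega.F4Leaf.OT.OfO1

end
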